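import Groth.Agent.Vanish.K419.LogRam
import Groth.Agent.Vanish.K660.SubTw

/-!
# The logarithmic ramification inequality

`main`: `π : X₁ ⟶ X` a morphism of schemes smooth over a field, `D` a normal crossing divisor on `X`, `E` one on `X₁`,
`π^{-1} D_j = ∏ E_i^{a_ij}`, `k_i = 0` or `k_i + 1 ≤ ∑_j a_ij` for all `i`.  Then the pull-back of top forms
`J : Ω^n_X ⟶ π_* Ω^n_{X₁}` factors through `π_* (Ω^n_{X₁} ⊗ ∏ E_i^{k_i})`.
-/

set_option autoImplicit false
set_option backward.isDefEq.respectTransparency false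

universe u

noncomputable section

open CategoryTheory CategoryTheory.Limits AlgebraicGeometry Opposite TopologicalSpace OmegaSh
open K583.AlgUniv K583.StalkDer K583.DerFunct K476.ExtStalk K680.FormHom K680.FormAlg
open Groth.Agent.CycB.ModStalk K475.GenStalk K680.FormMain K680.FormLog
open Groth.Agent.Sga67.Sec Groth.Agent.Sga67.LocBasis Groth.Agent.Sga67.LocBasisStalk
open K922.DSec K922.Coord K922.Chart K419.LogRam

namespace K419.LogRamMain

/-- A morphism to a push-forward which kills a cokernel factors. -/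
theorem exists_lift_pushforward {X X₁ : Scheme.{u}} (π : X₁ ⟶ X) {W : X.Modules} {M N : X₁.Modules} (φ : M ⟶ N) [Mono φ]
    (J : W ⟶ (Scheme.Modules.pushforward π).obj N) (hJ : J ≫ (Scheme.Modules.pushforward π).map (cokernel.π φ) = 0) :
    ∃ J' : W ⟶ (Scheme.Modules.pushforward π).obj M, J' ≫ (Scheme.Modules.pushforward π).map φ = J := by
  let ad := Scheme.Modules.pullbackPushforwardAdjunction π
  let J1 : (Scheme.Modules.pullback π).obj W ⟶ N := (ad.homEquiv _ _).symm J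
  have h1 : J1 ≫ cokernel.π φ = 0 := by
    apply (ad.homEquiv _ _).injective
    rw [Adjunction.homEquiv_naturality_right, Equiv.apply_symm_apply, hJ, Adjunction.homEquiv_unit, Functor.map_zero,
      comp_zero]
  let l := (Abelian.monoIsKernelOfCokernel _ (cokernelIsCokernel φ)).lift (KernelFork.ofι J1 h1)
  have hl : l ≫ φ = J1 :=
    (Abelian.monoIsKernelOfCokernel _ (cokernelIsCokernel φ)).fac (KernelFork.ofι J1 h1) WalkingParallelPair.zero
  refine ⟨ad.homEquiv _ _ l, ?_⟩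
  rw [← Adjunction.homEquiv_naturality_right, hl, Equiv.apply_symm_apply]

variable {k : Type u} [Field k] {X X₁ : Scheme.{u}} {f : X ⟶ Spec (CommRingCat.of k)}
  (π : X₁ ⟶ X) {Ω : X.Modules} {d : Der f Ω} {Ω₁ : X₁.Modules} {n : ℕ} {W : X.Modules}
  {W₁ : X₁.Modules} {r s : ℕ} {D : Fin r → X.IdealSheafData} {E : Fin s → X₁.IdealSheafData}

/-- The logarithmic ramification inequality. -/
theorem exists_factor [IsIntegral X₁] [Smooth f] [Smooth (π ≫ f)] (hd : IsUniversal d) {d₁ : Der (π ≫ f) Ω₁}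
    (hd₁ : IsUniversal d₁)
    (hr : FlatMod.IsFinLocFreeOfRank n Ω) (hr₁ : FlatMod.IsFinLocFreeOfRank n Ω₁)
    (hW : ExtPow.IsExtPow n Ω W) (hW₁ : ExtPow.IsExtPow n Ω₁ W₁)
    {J : W ⟶ (Scheme.Modules.pushforward π).obj W₁} (hJ : IsPull π (psi π hd d₁) hW hW₁ J)
    (hD : LogNCD.IsNCD D f) (hE : LogNCD.IsNCD E (π ≫ f))
    (a : Fin s → Fin r → ℕ) (ha : ∀ j, (D j).comap π = ∏ i, E i ^ a i j)
    (kk : Fin s → ℕ) (hk : ∀ i, kk i = 0 ∨ kk i + 1 ≤ ∑ j, a i j) :
    ∃ J' : W ⟶ (Scheme.Modules.pushforward π).obj (CohB1.tensorMod W₁ (ClSub.idealMod (∏ i, E i ^ kk i))),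
      J' ≫ (Scheme.Modules.pushforward π).map (LogNCD.inclTwist W₁ (∏ i, E i ^ kk i)) = J := by
  have hW₁f : FlatMod.IsFinLocFree W₁ :=
    Groth.Agent.Sga67.LocBasis.isFinLocFree_of_isExtPow (fun x => by
      obtain ⟨U, hx, e⟩ := hr₁ x
      exact ⟨U, n, hx, e⟩) hW₁
  have := K913.TauAff.mono_inclTwist (∏ i, E i ^ kk i) hW₁f
  apply exists_lift_pushforward
  apply Groth.Agent.Sga67.Sec.hom_ext
  intro U t
  rw [appS_zero]
  apply eq_of_locally (cokernel (LogNCD.inclTwist W₁ (∏ i, E i ^ kk i))) (U := π ⁻¹ᵁ U)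
  intro y hy
  obtain ⟨U', m, c, hyU', hU'⟩ := exists_chart hD (O := U) (x := π y) hy
  obtain ⟨U₁, m₁, c₁, hyU₁, hU₁⟩ := exists_chart hE (O := π ⁻¹ᵁ U'.1) (x := y) hyU'
  obtain ⟨ω, hω⟩ := exists_dvd π hd hd₁ hr hr₁ hW hW₁ hJ a ha kk hk c c₁ hU₁ y hyU₁ (ger W (π y) hy t)
  have h1 : pst π J y (ger W (π y) hy t) = ger W₁ (U := π ⁻¹ᵁ U) y hy (im π J t) :=
    pst_germ π J y U hy t
  rw [h1] at hω
  set G := ∏ i, c₁.g i ^ kk i with hG
  have hIG : (∏ i, E i ^ kk i).ideal U₁ = Ideal.span {G} := by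
    rw [K31.NcdRad.ideal_prod, hG, ← Ideal.prod_span_singleton]
    refine Finset.prod_congr rfl fun i _ => ?_
    rw [Scheme.IdealSheafData.ideal_pow, Pi.pow_apply, c₁.ideal i U₁ le_rfl, resO_self, Ideal.span_singleton_pow]
  obtain ⟨V, hyV, e', rfl⟩ := exists_ger W₁ y ω
  have hle : U₁.1 ≤ π ⁻¹ᵁ U := hU₁.trans (Scheme.Hom.preimage_mono π hU')
  -- compare on `V ⊓ U₁`
  have hyO : y ∈ V ⊓ U₁.1 := ⟨hyV, hyU₁⟩
  have h2 : ger W₁ y hyO (res W₁ ((inf_le_right : V ⊓ U₁.1 ≤ U₁.1).trans hle) (im π J t)) =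
      ger W₁ y hyO (resO X₁ (inf_le_right : V ⊓ U₁.1 ≤ U₁.1) G • res W₁ (inf_le_left : V ⊓ U₁.1 ≤ V) e') := by
    rw [ger_res, ger_smul, gerO_res, ger_res]
    exact hω
  obtain ⟨O, hO, hyO', h3⟩ := exists_res_eq W₁ y hyO _ _ h2
  obtain ⟨V', hyV', hV'⟩ := K660.SubTw.exists_affine_le y O hyO'
  have hV'U₁ : V'.1 ≤ U₁.1 := hV'.trans (hO.trans inf_le_right)
  have hV'V : V'.1 ≤ V := hV'.trans (hO.trans inf_le_left)
  refine ⟨V'.1, hV'U₁.trans hle, hyV', ?_⟩
  have h4 : res W₁ (hV'U₁.trans hle) (im π J t) =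
      resO X₁ hV'U₁ G • res W₁ hV'V e' := by
    have h5 := congrArg (res W₁ hV') h3
    rw [Groth.Agent.Sga67.Sec.res_res, Groth.Agent.Sga67.Sec.res_res, res_smul, res_smul, resO_resO, resO_resO,
      Groth.Agent.Sga67.Sec.res_res, Groth.Agent.Sga67.Sec.res_res] at h5
    exact h5
  obtain ⟨s', hs'⟩ := (K913.TauAff.range_inclTwist (∏ i, E i ^ kk i) hW₁f V' _
    (K660.SubTw.ideal_resO _ hV'U₁ G hIG) _).2 ⟨res W₁ hV'V e', h4⟩
  have h6 : im π (J ≫ (Scheme.Modules.pushforward π).map (cokernel.π (LogNCD.inclTwist W₁ (∏ i, E i ^ kk i)))) t =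
      appS (cokernel.π (LogNCD.inclTwist W₁ (∏ i, E i ^ kk i))) (π ⁻¹ᵁ U) (im π J t) := rfl
  refine (congrArg (res _ (hV'U₁.trans hle)) h6).trans ?_
  rw [← appS_res, ← hs', ← appS_comp, cokernel.condition, appS_zero]
  exact (map_zero (res _ (hV'U₁.trans hle))).symm

/-- The logarithmic ramification inequality for the pull-back of top forms between smooth schemes of the same dimension,
in terms of the prelude's `Omega.sheaf` and its universal derivation. -/
theorem exists_factor_omega (n : ℕ) (f : X ⟶ Spec (CommRingCat.of k)) (π : X₁ ⟶ X) [IsIntegral X₁]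
    [QuasiSeparated f] [QuasiSeparated (π ≫ f)] [SmoothOfRelativeDimension n f]
    [SmoothOfRelativeDimension n (π ≫ f)]
    (hW : ExtPow.IsExtPow n (Omega.sheaf f) W) (hW₁ : ExtPow.IsExtPow n (Omega.sheaf (π ≫ f)) W₁)
    {J : W ⟶ (Scheme.Modules.pushforward π).obj W₁}
    (hJ : IsPull π (psi π (Groth.Agent.S5005.result f) (dOmega (π ≫ f))) hW hW₁ J)
    (hD : LogNCD.IsNCD D f) (hE : LogNCD.IsNCD E (π ≫ f))
    (a : Fin s → Fin r → ℕ) (ha : ∀ j, (D j).comap π = ∏ i, E i ^ a i j)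
    (kk : Fin s → ℕ) (hk : ∀ i, kk i = 0 ∨ kk i + 1 ≤ ∑ j, a i j) :
    ∃ J' : W ⟶ (Scheme.Modules.pushforward π).obj (CohB1.tensorMod W₁ (ClSub.idealMod (∏ i, E i ^ kk i))),
      J' ≫ (Scheme.Modules.pushforward π).map (LogNCD.inclTwist W₁ (∏ i, E i ^ kk i)) = J := by
  have := SmoothOfRelativeDimension.smooth n f
  have := SmoothOfRelativeDimension.smooth n (π ≫ f)
  exact exists_factor π (Groth.Agent.S5005.result f) (Groth.Agent.S5005.result (π ≫ f))
    (Groth.Agent.Dual.H339.OmegaRank.isFinLocFreeOfRank_omega n f)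
    (Groth.Agent.Dual.H339.OmegaRank.isFinLocFreeOfRank_omega n (π ≫ f)) hW hW₁ hJ hD hE a ha kk hk

/-- A pull-back of top forms which is nonzero at the generic point and satisfies the logarithmic ramification inequality
for all normal crossing divisors. -/
theorem main [CharZero k] (n : ℕ) (f : X ⟶ Spec (CommRingCat.of k)) (π : X₁ ⟶ X) [IsIntegral X] [IsIntegral X₁]
    [QuasiSeparated f] [QuasiSeparated (π ≫ f)] [SmoothOfRelativeDimension n f]
    [SmoothOfRelativeDimension n (π ≫ f)] [IsDominant π]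
    (hW : ExtPow.IsExtPow n (Omega.sheaf f) W) (hW₁ : ExtPow.IsExtPow n (Omega.sheaf (π ≫ f)) W₁) :
    ∃ J : W ⟶ (Scheme.Modules.pushforward π).obj W₁,
      IsPull π (psi π (Groth.Agent.S5005.result f) (dOmega (π ≫ f))) hW hW₁ J ∧
      (∀ (U : X.Opens) (β : Γ(W, U)), β ≠ 0 → ∀ h : genericPoint X₁ ∈ π ⁻¹ᵁ U,
        W₁.presheaf.germ (π ⁻¹ᵁ U) (genericPoint X₁) h (im π J β) ≠ 0) ∧
      ∀ {r s : ℕ} {D : Fin r → X.IdealSheafData} {E : Fin s → X₁.IdealSheafData}, LogNCD.IsNCD D f →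
        LogNCD.IsNCD E (π ≫ f) → ∀ a : Fin s → Fin r → ℕ, (∀ j, (D j).comap π = ∏ i, E i ^ a i j) →
        ∀ kk : Fin s → ℕ, (∀ i, kk i = 0 ∨ kk i + 1 ≤ ∑ j, a i j) →
        ∃ J' : W ⟶ (Scheme.Modules.pushforward π).obj (CohB1.tensorMod W₁ (ClSub.idealMod (∏ i, E i ^ kk i))),
          J' ≫ (Scheme.Modules.pushforward π).map (LogNCD.inclTwist W₁ (∏ i, E i ^ kk i)) = J := by
  have hd := Groth.Agent.S5005.result f
  have hd₁ := Groth.Agent.S5005.result (π ≫ f)
  have hr := Groth.Agent.Dual.H339.OmegaRank.isFinLocFreeOfRank_omega n f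
  have hr₁ := Groth.Agent.Dual.H339.OmegaRank.isFinLocFreeOfRank_omega n (π ≫ f)
  have hq : Coh.IsQCoh (Omega.sheaf f) := K583.UnivAffine.isQuasicoherent_of_isUniversal hd
  obtain ⟨J, hJ⟩ := exists_isPull π (psi π hd (dOmega (π ≫ f))) hW hW₁
  refine ⟨J, hJ, ?_, fun hD hE a ha kk hk => exists_factor_omega n f π hW hW₁ hJ hD hE a ha kk hk⟩
  intro U β hβ h
  have h1 : π (genericPoint X₁) = genericPoint X := by
    have h2 := (genericPoint_spec X₁).image π.continuous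
    rw [Set.image_univ, π.denseRange.closure_range] at h2
    exact (genericPoint_spec X).eq h2 |>.symm
  have hK : IsField (X.presheaf.stalk (π (genericPoint X₁))) := by
    rw [h1]
    exact Field.toIsField X.functionField
  have hL : IsField (X₁.presheaf.stalk (genericPoint X₁)) := Field.toIsField X₁.functionField
  have h3 : W.presheaf.germ U (π (genericPoint X₁)) h β ≠ 0 := by
    intro h0
    apply hβ
    refine section_ext (inj_of_rank hq hr hW) (fun hη => ?_)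
    rw [map_zero]
    exact germ_eq_zero_of_eq β h1 h hη h0
  have h4 := pst_ne_zero π hd hd₁ hr hr₁ hW hW₁ hJ (genericPoint X₁) hK hL h3
  rw [pst_germ] at h4
  exact h4

end K419.LogRamMain
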