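import Groth.Agent.Vanish.K680.FormLog
import Groth.Agent.Vanish.K31.NcdRad
import Groth.Agent.LogNCD.K922.Chart
import Groth.Agent.LogNCD.K922.Univ
import Groth.Agent.NonAbH1.K550.RegPairs
import Groth.Agent.Dual3.K477.NormalGeo

/-!
# The logarithmic ramification inequality, local form

`exists_dvd`: `D` a normal crossing divisor on `X`, `E` one on `X₁`, `π^{-1} D_j = ∏ E_i^{a_ij}`; then the pull-back
`J : Ω^n_X ⟶ π_* Ω^n_{X₁}` of top forms is divisible at every point `y` by `∏ g_i^{k_i}`, `g_i` the local equation of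
`E_i`, whenever `k_i = 0` or `k_i + 1 ≤ ∑_j a_ij`.
-/

set_option autoImplicit false
set_option backward.isDefEq.respectTransparency false

universe u

noncomputable section

open CategoryTheory CategoryTheory.Limits AlgebraicGeometry Opposite TopologicalSpace OmegaSh
open K583.AlgUniv K583.StalkDer K583.DerFunct K476.ExtStalk K680.FormHom K680.FormAlg
open Groth.Agent.CycB.ModStalk K475.GenStalk K680.FormMain K680.FormLog
open Groth.Agent.Sga67.Sec Groth.Agent.Sga67.LocBasis Groth.Agent.Sga67.LocBasisStalk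
open K922.DSec K922.Coord K922.Chart

namespace K419.LogRam

section Alg

theorem prod_pow_dvd {R ι : Type*} [CommRing R] [IsDomain R] (s : ι → R) (k : ι → ℕ)
    (h : ∀ i, IsUnit (s i) ∨ Prime (s i)) (hne : ∀ i j, i ≠ j → Prime (s i) → ¬ s i ∣ s j)
    (w : R) (F : Finset ι) (hw : ∀ i ∈ F, s i ^ k i ∣ w) : ∏ i ∈ F, s i ^ k i ∣ w := by
  classical
  induction F using Finset.induction_on with
  | empty => simp
  | insert i F hi ih =>
    obtain ⟨w', rfl⟩ := ih fun j hj => hw j (Finset.mem_insert_of_mem hj)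
    rw [Finset.prod_insert hi, mul_comm]
    apply mul_dvd_mul_left
    have h1 := hw i (Finset.mem_insert_self i F)
    rcases h i with hu | hp
    · exact (hu.pow _).dvd
    · refine hp.pow_dvd_of_dvd_mul_left _ ?_ h1
      intro h2
      obtain ⟨j, hj, h3⟩ := (hp.dvd_finsetProd_iff _).1 h2
      exact hne i j (fun h => hi (h ▸ hj)) hp (hp.dvd_of_dvd_pow h3)

variable {A₀ R M : Type u} [CommRing A₀] [CommRing R] [IsLocalRing R] [AddCommGroup M] [Module R M]
  {φ : A₀ →+* R} {δ : R →+ M} {ι : Type*}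

theorem repr_mem (hδ : IsDer φ δ) (b : Module.Basis ι R M) (i : ι) {x : R}
    (hx : x ∈ IsLocalRing.maximalIdeal R ^ 2) : b.repr (δ x) i ∈ IsLocalRing.maximalIdeal R := by
  rw [pow_two] at hx
  refine Submodule.mul_induction_on hx (fun p hp q hq => ?_) (fun p q hp hq => ?_)
  · rw [hδ.leibniz, map_add, Finsupp.add_apply, map_smul, map_smul, Finsupp.smul_apply, Finsupp.smul_apply]
    exact Ideal.add_mem _ (Ideal.mul_mem_right _ _ hp) (Ideal.mul_mem_right _ _ hq)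
  · rw [map_add, map_add, Finsupp.add_apply]
    exact Ideal.add_mem _ hp hq

theorem notMem_sq (hδ : IsDer φ δ) (b : Module.Basis ι R M) (t : ι → R) (hb : ∀ i, b i = δ (t i)) (i : ι) :
    t i ∉ IsLocalRing.maximalIdeal R ^ 2 := by
  intro h
  have h1 := repr_mem hδ b i h
  rw [← hb, Module.Basis.repr_self, Finsupp.single_eq_same] at h1
  exact (Ideal.ne_top_iff_one _).1 (IsLocalRing.maximalIdeal.isMaximal R).ne_top h1

theorem not_dvd (hδ : IsDer φ δ) (b : Module.Basis ι R M) (t : ι → R) (hb : ∀ i, b i = δ (t i)) {i j : ι}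
    (hij : i ≠ j) (hi : t i ∈ IsLocalRing.maximalIdeal R) : ¬ t i ∣ t j := by
  rintro ⟨c, hc⟩
  have h1 : b.repr (δ (t j)) j = 1 := by
    rw [← hb, Module.Basis.repr_self, Finsupp.single_eq_same]
  have h2 : b.repr (δ (t j)) j ∈ IsLocalRing.maximalIdeal R := by
    rw [hc, hδ.leibniz, ← hb i, map_add, Finsupp.add_apply, map_smul, map_smul, Finsupp.smul_apply,
      Finsupp.smul_apply, Module.Basis.repr_self, Finsupp.single_eq_of_ne' hij, smul_zero, add_zero]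
    exact Ideal.mul_mem_right _ _ hi
  rw [h1] at h2
  exact (Ideal.ne_top_iff_one _).1 (IsLocalRing.maximalIdeal.isMaximal R).ne_top h2

end Alg

section Stalk

variable {k : Type u} [Field k] {X : Scheme.{u}} {f : X ⟶ Spec (CommRingCat.of k)} {Ω : X.Modules} {d : Der f Ω}

/-- The differentials of étale coordinates form a basis of the stalk. -/
theorem exists_basis (hd : IsUniversal d) {U : X.Opens} {m : ℕ} {v : Fin m → Γ(X, U)}
    (hv : IsCoord f U v) (x : X) (hx : x ∈ U) :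
    ∃ b : Module.Basis (Fin m) (X.presheaf.stalk x) (Ω.presheaf.stalk x),
      ∀ j, b j = stalkDer d x (gerO x hx (v j)) := by
  obtain ⟨b, hb⟩ := Groth.Agent.Krr.H487.LocBasisPull.exists_stalkBasis
    (hv.isLocBasis (K922.Univ.affUniv hd)) x hx
  refine ⟨b, fun j => ?_⟩
  rw [hb]
  exact (stalkDer_germ d x U hx (v j)).symm

variable {r : ℕ} {D : Fin r → X.IdealSheafData}

theorem isUnit_gerO_one {X : Scheme.{u}} {U : X.Opens} (x : X) (hx : x ∈ U) :
    IsUnit (gerO x hx (1 : Γ(X, U))) := by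
  rw [show gerO x hx (1 : Γ(X, U)) = 1 from map_one (X.presheaf.germ U x hx).hom]
  exact isUnit_one

theorem isUnit_or_prime [Smooth f] (hd : IsUniversal d) {U : X.Opens} {m : ℕ} (c : Chart f D U m) (x : X)
    (hx : x ∈ U) (i : Fin r) : IsUnit (gerO x hx (c.g i)) ∨ Prime (gerO x hx (c.g i)) := by
  rcases h : c.e i with _ | κ
  · left
    rw [c.g_none i h]
    exact isUnit_gerO_one x hx
  · rw [c.g_some i κ h]
    by_cases hu : IsUnit (gerO x hx (c.v κ))
    · exact Or.inl hu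
    right
    have hreg : IsRegularLocalRing (X.presheaf.stalk x) :=
      Groth.Agent.K477.NormalGeo.isRegular_of_mem_smoothLocus f x
        (by rw [f.smoothLocus_eq_top]; trivial)
    have hm : gerO x hx (c.v κ) ∈ IsLocalRing.maximalIdeal (X.presheaf.stalk x) := hu
    obtain ⟨b, hb⟩ := exists_basis hd c.coord x hx
    have hm2 := notMem_sq (isDer_stalkDer d x) b _ hb κ
    have h1 := K550.RegPairs.isPrime_span_of_notMem_sq hm hm2
    refine (Ideal.span_singleton_prime ?_).1 h1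
    intro h0
    exact hm2 (by rw [h0]; exact Ideal.zero_mem _)

theorem not_dvd_germ (hd : IsUniversal d) {U : X.Opens} {m : ℕ} (c : Chart f D U m) (x : X)
    (hx : x ∈ U) {i j : Fin r} (hij : i ≠ j) (hi : ¬ IsUnit (gerO x hx (c.g i))) :
    ¬ gerO x hx (c.g i) ∣ gerO x hx (c.g j) := by
  intro hdvd
  rcases h : c.e i with _ | κ
  · apply hi
    rw [c.g_none i h]
    exact isUnit_gerO_one x hx
  rcases h' : c.e j with _ | κ'
  · apply hi
    rw [c.g_none j h'] at hdvd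
    exact isUnit_of_dvd_unit hdvd (isUnit_gerO_one x hx)
  obtain ⟨b, hb⟩ := exists_basis hd c.coord x hx
  rw [c.g_some i κ h] at hdvd hi
  rw [c.g_some j κ' h'] at hdvd
  refine not_dvd (isDer_stalkDer d x) b _ hb (i := κ) (j := κ') ?_ hi hdvd
  rintro rfl
  exact hij (c.inj i j κ h h')

end Stalk

section Main

variable {k : Type u} [Field k] {X X₁ : Scheme.{u}} {f : X ⟶ Spec (CommRingCat.of k)}
  (π : X₁ ⟶ X) {Ω : X.Modules} {d : Der f Ω} {Ω₁ : X₁.Modules} {n : ℕ} {W : X.Modules}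
  {W₁ : X₁.Modules} {r s : ℕ} {D : Fin r → X.IdealSheafData} {E : Fin s → X₁.IdealSheafData}

/-- The local equations of `π^{-1} D_j`. -/
theorem exists_eqn (a : Fin s → Fin r → ℕ) (ha : ∀ j, (D j).comap π = ∏ i, E i ^ a i j)
    {U : X.affineOpens} {m : ℕ} (c : Chart f D U.1 m) {U₁ : X₁.affineOpens} {m₁ : ℕ}
    (c₁ : Chart (π ≫ f) E U₁.1 m₁) (e : U₁.1 ≤ π ⁻¹ᵁ U.1) (y : X₁) (hy : y ∈ U₁.1) (j : Fin r) :
    ∃ w : X₁.presheaf.stalk y, π.stalkMap y (gerO (π y) (e hy) (c.g j)) =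
      w * ∏ i, gerO y hy (c₁.g i) ^ a i j := by
  have h1 : (D j).ideal U = Ideal.span {c.g j} := by rw [c.ideal j U le_rfl, resO_self]
  have h2 : ((D j).comap π).ideal U₁ = Ideal.span {(π.appLE U.1 U₁.1 e).hom (c.g j)} := by
    rw [Groth.Agent.Divis.IdealComap.ideal_comap _ π U U₁ e, h1, Ideal.map_span, Set.image_singleton]
  have h3 : ((D j).comap π).ideal U₁ = Ideal.span {∏ i, c₁.g i ^ a i j} := by
    rw [ha, K31.NcdRad.ideal_prod, ← Ideal.prod_span_singleton]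
    refine Finset.prod_congr rfl fun i _ => ?_
    rw [Scheme.IdealSheafData.ideal_pow, Pi.pow_apply, c₁.ideal i U₁ le_rfl, resO_self, Ideal.span_singleton_pow]
  have h4 : (π.appLE U.1 U₁.1 e).hom (c.g j) ∈ Ideal.span {∏ i, c₁.g i ^ a i j} := by
    rw [← h3, h2]
    exact Ideal.mem_span_singleton_self _
  obtain ⟨w, hw⟩ := Ideal.mem_span_singleton'.1 h4
  refine ⟨gerO y hy w, ?_⟩
  have h5 : π.stalkMap y (gerO (π y) (e hy) (c.g j)) = gerO y hy ((π.appLE U.1 U₁.1 e).hom (c.g j)) := by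
    have h6 : gerO y hy ((π.appLE U.1 U₁.1 e).hom (c.g j)) = gerO y (e hy) (π.app U.1 (c.g j)) :=
      gerO_res e y hy (π.app U.1 (c.g j))
    rw [h6]
    exact Scheme.Hom.germ_stalkMap_apply π U.1 y (e hy) (c.g j)
  rw [h5, ← hw]
  change (X₁.presheaf.germ U₁.1 y hy).hom _ = (X₁.presheaf.germ U₁.1 y hy).hom _ * ∏ i, ((X₁.presheaf.germ U₁.1 y hy).hom _) ^ _
  simp only [map_mul, map_prod, map_pow]

theorem exists_pow (hd : IsUniversal d) {d₁ : Der (π ≫ f) Ω₁} (hd₁ : IsUniversal d₁)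
    (hr : FlatMod.IsFinLocFreeOfRank n Ω) (hW : ExtPow.IsExtPow n Ω W) (hW₁ : ExtPow.IsExtPow n Ω₁ W₁)
    {J : W ⟶ (Scheme.Modules.pushforward π).obj W₁} (hJ : IsPull π (psi π hd d₁) hW hW₁ J)
    (a : Fin s → Fin r → ℕ) (ha : ∀ j, (D j).comap π = ∏ i, E i ^ a i j)
    {U : X.affineOpens} {m : ℕ} (c : Chart f D U.1 m) {U₁ : X₁.affineOpens} {m₁ : ℕ}
    (c₁ : Chart (π ≫ f) E U₁.1 m₁) (e : U₁.1 ≤ π ⁻¹ᵁ U.1) (y : X₁) (hy : y ∈ U₁.1)
    (i₀ : Fin s) (hi₀ : ¬ IsUnit (gerO y hy (c₁.g i₀))) (β : W.presheaf.stalk (π y)) :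
    ∃ ω : W₁.presheaf.stalk y, pst π J y β = (gerO y hy (c₁.g i₀)) ^ ((∑ j, a i₀ j) - 1) • ω := by
  classical
  obtain ⟨b, hb⟩ := exists_basis hd c.coord (π y) (e hy)
  obtain ⟨b', -⟩ : ∃ b' : Module.Basis (Fin n) (X.presheaf.stalk (π y)) (Ω.presheaf.stalk (π y)), True := by
    obtain ⟨b'⟩ := Groth.Agent.Krr.H450.ConormalIso.exists_basis_stalk hr (π y)
    exact ⟨b', trivial⟩
  obtain rfl : m = n := by
    have h1 := Module.finrank_eq_card_basis b
    have h2 := Module.finrank_eq_card_basis b'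
    simpa using h1.symm.trans h2
  set S := X₁.presheaf.stalk y
  set σ : S := gerO y hy (c₁.g i₀) with hσ
  -- the equations of the pull-backs
  have hw : ∀ j, ∃ w : S, π.stalkMap y (gerO (π y) (e hy) (c.g j)) = w * σ ^ a i₀ j := by
    intro j
    obtain ⟨w, hw⟩ := exists_eqn π a ha c c₁ e y hy j
    refine ⟨w * ∏ i ∈ Finset.univ.erase i₀, gerO y hy (c₁.g i) ^ a i j, ?_⟩
    rw [hw, ← Finset.prod_erase_mul _ _ (Finset.mem_univ i₀)]
    ring
  choose w hw using hw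
  have hnone : ∀ j, c.e j = none → a i₀ j = 0 := by
    intro j hj
    by_contra h0
    apply hi₀
    have h1 := hw j
    rw [c.g_none j hj, show gerO (π y) (e hy) (1 : Γ(X, U.1)) = 1 from
      map_one (X.presheaf.germ U.1 (π y) (e hy)).hom, map_one] at h1
    exact (isUnit_pow_iff h0).1 (IsUnit.of_mul_eq_one (w j) (by rw [mul_comm]; exact h1.symm))
  -- the coordinates which are equations of some `D j` with positive multiplicity
  let B : Finset (Fin r) := Finset.univ.filter fun j => 0 < a i₀ j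
  have hB : ∀ j ∈ B, ∃ κ, c.e j = some κ := by
    intro j hj
    rcases h : c.e j with _ | κ
    · exact absurd (hnone j h) (Finset.mem_filter.1 hj).2.ne'
    · exact ⟨κ, rfl⟩
  let A : Finset (Fin m) := Finset.univ.filter fun κ => ∃ j ∈ B, c.e j = some κ
  have hA : ∀ κ : Fin m, ∃ (a' : ℕ) (u : S), (κ ∈ A → π.stalkMap y (gerO (π y) (e hy) (c.v κ)) = u * σ ^ a' ∧ 0 < a') ∧
      ∀ j ∈ B, c.e j = some κ → a' = a i₀ j := by
    intro κ
    by_cases hκ : ∃ j ∈ B, c.e j = some κ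
    · obtain ⟨j, hj, hjκ⟩ := hκ
      refine ⟨a i₀ j, w j, fun _ => ⟨?_, (Finset.mem_filter.1 hj).2⟩, fun j' hj' h' => ?_⟩
      · rw [← c.g_some j κ hjκ, hw j]
      · rw [c.inj j j' κ hjκ h']
    · refine ⟨0, 0, fun h => absurd (Finset.mem_filter.1 h).2 hκ, fun j hj h => absurd ⟨j, hj, h⟩ hκ⟩
  choose a' u h1 h2 using hA
  have hsum : ∑ κ ∈ A, a' κ = ∑ j, a i₀ j := by
    have h3 : ∑ j, a i₀ j = ∑ j ∈ B, a i₀ j := by
      rw [Finset.sum_filter_of_ne]
      intro j _ hj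
      exact Nat.pos_of_ne_zero hj
    rw [h3]
    symm
    refine Finset.sum_bij (fun j hj => (hB j hj).choose) ?_ ?_ ?_ ?_
    · intro j hj
      exact Finset.mem_filter.2 ⟨Finset.mem_univ _, j, hj, (hB j hj).choose_spec⟩
    · intro j hj j' hj' h
      refine c.inj j j' _ (hB j hj).choose_spec ?_
      rw [h]
      exact (hB j' hj').choose_spec
    · intro κ hκ
      obtain ⟨j, hj, hjκ⟩ := (Finset.mem_filter.1 hκ).2
      exact ⟨j, hj, Option.some.inj ((hB j hj).choose_spec.symm.trans hjκ)⟩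
    · intro j hj
      exact (h2 _ j hj (hB j hj).choose_spec).symm
  obtain ⟨ω, hω⟩ := exists_pow_pst π hd hd₁ hW hW₁ hJ y b A (fun κ => gerO (π y) (e hy) (c.v κ))
    (fun κ _ => hb κ) σ a' u (fun κ hκ => (h1 κ hκ).1) (fun κ hκ => (h1 κ hκ).2) β
  exact ⟨ω, by rw [hω, hsum]⟩

/-- The logarithmic ramification inequality on stalks. -/
theorem exists_dvd [IsIntegral X₁] [Smooth (π ≫ f)] (hd : IsUniversal d) {d₁ : Der (π ≫ f) Ω₁}
    (hd₁ : IsUniversal d₁)
    (hr : FlatMod.IsFinLocFreeOfRank n Ω) (hr₁ : FlatMod.IsFinLocFreeOfRank n Ω₁)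
    (hW : ExtPow.IsExtPow n Ω W) (hW₁ : ExtPow.IsExtPow n Ω₁ W₁)
    {J : W ⟶ (Scheme.Modules.pushforward π).obj W₁} (hJ : IsPull π (psi π hd d₁) hW hW₁ J)
    (a : Fin s → Fin r → ℕ) (ha : ∀ j, (D j).comap π = ∏ i, E i ^ a i j)
    (kk : Fin s → ℕ) (hk : ∀ i, kk i = 0 ∨ kk i + 1 ≤ ∑ j, a i j)
    {U : X.affineOpens} {m : ℕ} (c : Chart f D U.1 m) {U₁ : X₁.affineOpens} {m₁ : ℕ}
    (c₁ : Chart (π ≫ f) E U₁.1 m₁) (e : U₁.1 ≤ π ⁻¹ᵁ U.1) (y : X₁) (hy : y ∈ U₁.1)
    (β : W.presheaf.stalk (π y)) :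
    ∃ ω : W₁.presheaf.stalk y, pst π J y β = gerO y hy (∏ i, c₁.g i ^ kk i) • ω := by
  have hq₁ : Coh.IsQCoh Ω₁ := K583.UnivAffine.isQuasicoherent_of_isUniversal hd₁
  obtain ⟨b₁⟩ := Groth.Agent.Krr.H450.ConormalIso.exists_basis_stalk hr₁ y
  have hgen := isGen_wedge hq₁ hW₁ y b₁
  obtain ⟨t, ht⟩ := hgen.2 (pst π J y β)
  have h1 : ∀ i, gerO y hy (c₁.g i) ^ kk i ∣ t := by
    intro i
    rcases hk i with h0 | h0
    · rw [h0, pow_zero]
      exact one_dvd _
    by_cases hu : IsUnit (gerO y hy (c₁.g i))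
    · exact (hu.pow _).dvd
    obtain ⟨ω, hω⟩ := exists_pow π hd hd₁ hr hW hW₁ hJ a ha c c₁ e y hy i hu β
    obtain ⟨t', rfl⟩ := hgen.2 ω
    have h2 : t = gerO y hy (c₁.g i) ^ ((∑ j, a i j) - 1) * t' := by
      apply hgen.1
      change t • wedge hq₁ hW₁ y b₁ = (_ * t') • wedge hq₁ hW₁ y b₁
      rw [mul_smul]
      exact ht.trans hω
    rw [h2]
    exact Dvd.dvd.mul_right (pow_dvd_pow _ (by omega)) _
  have h2 : ∏ i, gerO y hy (c₁.g i) ^ kk i ∣ t :=
    prod_pow_dvd _ kk (isUnit_or_prime hd₁ c₁ y hy)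
      (fun i j hij hp => not_dvd_germ hd₁ c₁ y hy hij hp.not_isUnit) t Finset.univ (fun i _ => h1 i)
  obtain ⟨t', ht'⟩ := h2
  refine ⟨t' • wedge hq₁ hW₁ y b₁, ?_⟩
  have h3 : gerO y hy (∏ i, c₁.g i ^ kk i) = ∏ i, gerO y hy (c₁.g i) ^ kk i := by
    change (X₁.presheaf.germ U₁.1 y hy).hom _ = ∏ i, ((X₁.presheaf.germ U₁.1 y hy).hom _) ^ _
    simp only [map_prod, map_pow]
  rw [h3, smul_smul, ← ht']
  exact ht.symm

end Main

end K419.LogRam
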